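import Mathlib
import Cfsg.Agent.Lib.Helper48.Ami.TopDefs

/-!
# AMI package CHARP: finite subgroups of the unit group of a division ring of
positive characteristic are commutative (pairwise commuting elements).
-/

namespace Cfsg.Agent.Lib.Helper11.Ami

universe u

/-- In a division ring of characteristic `p`, a finite subgroup of the unit group
is commutative. -/
theorem charP_comm (D : Type u) [DivisionRing D] (p : ℕ) [Fact p.Prime] [CharP D p]
    (H : Subgroup Dˣ) (hfin : Finite ↥H) (a : Dˣ) (ha : a ∈ H) (b : Dˣ) (hb : b ∈ H) :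
    a * b = b * a := by
  classical
  letI : Algebra (ZMod p) D := ZMod.algebra D p
  -- the multiplicative submonoid of `D` given by `H`
  let M : Submonoid D := H.toSubmonoid.map (Units.coeHom D)
  have hMfin : (M : Set D).Finite := by
    have : (M : Set D) = (fun h : H => ((h : Dˣ) : D)) '' Set.univ := by
      ext d
      constructor
      · rintro ⟨u, hu, rfl⟩
        exact ⟨⟨u, hu⟩, Set.mem_univ _, rfl⟩
      · rintro ⟨h, -, rfl⟩
        exact ⟨h.1, h.2, rfl⟩
    rw [this]
    exact (Set.finite_univ).image _
  let K : Subalgebra (ZMod p) D := Algebra.adjoin (ZMod p) (M : Set D)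
  have hKspan : K.toSubmodule = Submodule.span (ZMod p) (M : Set D) := by
    have := Algebra.adjoin_eq_span (R := ZMod p) (M : Set D)
    rw [Submonoid.closure_eq] at this
    exact this
  have hfg : (K.toSubmodule).FG := by
    rw [hKspan]
    exact Submodule.fg_span hMfin
  haveI : Module.Finite (ZMod p) K.toSubmodule := Module.Finite.of_fg hfg
  haveI : Finite K.toSubmodule := Module.finite_of_finite (ZMod p)
  haveI : Finite K := ‹Finite K.toSubmodule›
  have hfield : IsField K := Finite.isDomain_to_isField K
  have haK : (a : D) ∈ K := Algebra.subset_adjoin ⟨a, ha, rfl⟩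
  have hbK : (b : D) ∈ K := Algebra.subset_adjoin ⟨b, hb, rfl⟩
  have hcomm := hfield.mul_comm ⟨(a : D), haK⟩ ⟨(b : D), hbK⟩
  have hcomm' : (a : D) * (b : D) = (b : D) * (a : D) := congrArg Subtype.val hcomm
  exact Units.ext (by simpa using hcomm')

/-- The package `PkgCharP`. -/
theorem pkgCharP : Cfsg.Agent.Lib.Helper48.AmiTop.PkgCharP.{u} := by
  intro D _ p _ _ H hfin a ha b hb
  exact charP_comm D p H hfin a ha b hb

end Cfsg.Agent.Lib.Helper11.Ami
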