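import Mathlib
import Cfsg.Agent.Lib.Helper48.Ami.TopDefs

/-!
# AMI package OCT: the ring core of the index-2 case

No `x` of order 5 and `y` with `y x = x² y`, `y⁴ = -1` in a division ring of
characteristic zero.  The cyclic algebra `(ℚ(ζ₅)/ℚ, σ, -1)` splits as a tensor product of
the quaternion algebras `(5, 2)` (generated by `s = x + x⁴ - x² - x³`, `r = y - y³`) and
`(-1, -5)` (generated by `w = y²`, `j = (x - x⁴) + (x² - x³) y²`); explicit zero divisors
come from `(5(2+s)r)² = -50 = (5w + j + 2wj)²`.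
-/

namespace Cfsg.Agent.Lib.Helper11.Ami

universe u

/-- Abstract core: two commuting quaternion systems `(5, 2)` and `(-1, -5)` cannot live in
a division ring of characteristic zero. -/
theorem oct_core {D : Type u} [DivisionRing D] [CharZero D] (s r w j : D)
    (hs2 : s * s = 5) (hr2 : r * r = 2) (hw2 : w * w = -1) (hj2 : j * j = -5)
    (hrs : r * s = -(s * r)) (hws : w * s = s * w) (hsj : s * j = j * s)
    (hrw : r * w = w * r) (hrj : r * j = j * r) (hwj : w * j = -(j * w)) : False := by
  obtain ⟨A, hAdef⟩ : ∃ A : D, A = s * r + 2 * r := ⟨_, rfl⟩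
  obtain ⟨B, hBdef⟩ : ∃ B : D, B = 5 * w + j + 2 * (w * j) := ⟨_, rfl⟩
  have hA : A * A = -2 := by
    rw [hAdef]
    linear_combination (norm := (noncomm_ring <;> norm_num))
      s * hrs * r + 2 * (hrs * r) + 4 * hr2 - s * s * hr2 - 2 * hs2
  have hB : B * B = -50 := by
    rw [hBdef]
    linear_combination (norm := (noncomm_ring <;> norm_num))
      25 * hw2 + 5 * hwj + 10 * (w * hwj) + 5 * hj2 + 2 * (hwj * j) + 4 * (w * hwj * j)
        - 4 * (hw2 * j * j)
  have hAw : A * w = w * A := by
    rw [hAdef]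
    linear_combination (norm := (noncomm_ring <;> norm_num)) s * hrw - hws * r + 2 * hrw
  have hAj : A * j = j * A := by
    rw [hAdef]
    linear_combination (norm := (noncomm_ring <;> norm_num)) s * hrj + hsj * r + 2 * hrj
  have hAB : A * B = B * A := by
    rw [hBdef]
    linear_combination (norm := (noncomm_ring <;> norm_num))
      5 * hAw + hAj + 2 * (hAw * j) + 2 * (w * hAj)
  have hsA : s * A = -(A * s) := by
    rw [hAdef]
    linear_combination (norm := (noncomm_ring <;> norm_num)) s * hrs + 2 * hrs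
  have hsB : s * B = B * s := by
    rw [hBdef]
    linear_combination (norm := (noncomm_ring <;> norm_num))
      -5 * hws + hsj + 2 * (w * hsj) - 2 * (hws * j)
  have hprod : (5 * A - B) * (5 * A + B) = 0 := by
    linear_combination (norm := (noncomm_ring <;> norm_num)) 25 * hA - hB + 5 * hAB
  have hAs : A * s = 0 := by
    have h10 : 10 * (A * s) = 0 := by
      rcases mul_eq_zero.1 hprod with hcase | hcase
      · linear_combination (norm := (noncomm_ring <;> norm_num))
          hcase * s - hsB - s * hcase + 5 * hsA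
      · linear_combination (norm := (noncomm_ring <;> norm_num))
          hcase * s + hsB - s * hcase + 5 * hsA
    rcases mul_eq_zero.1 h10 with h | h
    · exact absurd h (by norm_num)
    · exact h
  rcases mul_eq_zero.1 hAs with h | h
  · rw [h, mul_zero] at hA
    exact absurd hA.symm (by norm_num)
  · rw [h, mul_zero] at hs2
    exact absurd hs2.symm (by norm_num)

/-- The ring core of the index-2 case. -/
theorem oct_main {D : Type u} [DivisionRing D] [CharZero D] (x y : D)
    (hx5 : x ^ 5 = 1) (hx1 : x ≠ 1) (hyx : y * x = x ^ 2 * y) (hy4 : y ^ 4 = -1) : False := by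
  have hΦ : 1 + x + x ^ 2 + x ^ 3 + x ^ 4 = 0 := by
    have h : (x - 1) * (1 + x + x ^ 2 + x ^ 3 + x ^ 4) = 0 := by
      linear_combination (norm := (noncomm_ring <;> norm_num)) hx5
    rcases mul_eq_zero.1 h with h | h
    · exact absurd (sub_eq_zero.1 h) hx1
    · exact h
  have hyx2 : y * x ^ 2 = x ^ 4 * y := by
    linear_combination (norm := (noncomm_ring <;> norm_num)) hyx * x + x ^ 2 * hyx
  have hyx3 : y * x ^ 3 = x * y := by
    linear_combination (norm := (noncomm_ring <;> norm_num))
      hyx2 * x + x ^ 4 * hyx + x * hx5 * y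
  have hyx4 : y * x ^ 4 = x ^ 3 * y := by
    linear_combination (norm := (noncomm_ring <;> norm_num)) hyx3 * x + x * hyx
  obtain ⟨s, hsdef⟩ : ∃ s : D, s = x + x ^ 4 - x ^ 2 - x ^ 3 := ⟨_, rfl⟩
  obtain ⟨w, hwdef⟩ : ∃ w : D, w = y * y := ⟨_, rfl⟩
  obtain ⟨r, hrdef⟩ : ∃ r : D, r = y - y * y * y := ⟨_, rfl⟩
  obtain ⟨d1, hd1def⟩ : ∃ d1 : D, d1 = x - x ^ 4 := ⟨_, rfl⟩
  obtain ⟨d2, hd2def⟩ : ∃ d2 : D, d2 = x ^ 2 - x ^ 3 := ⟨_, rfl⟩
  have hys : y * s = -(s * y) := by
    rw [hsdef]
    linear_combination (norm := (noncomm_ring <;> norm_num)) hyx + hyx4 - hyx2 - hyx3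
  have hs2 : s * s = 5 := by
    rw [hsdef]
    linear_combination (norm := (noncomm_ring <;> norm_num))
      (x ^ 3 - 2 * x ^ 2 - x + 4) * hx5 - hΦ
  have hw2 : w * w = -1 := by
    rw [hwdef]
    linear_combination (norm := (noncomm_ring <;> norm_num)) hy4
  have hr2 : r * r = 2 := by
    rw [hrdef]
    linear_combination (norm := (noncomm_ring <;> norm_num)) (y ^ 2 - 2) * hy4
  have hrs : r * s = -(s * r) := by
    rw [hrdef]
    linear_combination (norm := (noncomm_ring <;> norm_num))
      hys - y * y * hys + y * hys * y - hys * y * y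
  have hws : w * s = s * w := by
    rw [hwdef]
    linear_combination (norm := (noncomm_ring <;> norm_num)) y * hys - hys * y
  have hrw : r * w = w * r := by
    rw [hrdef, hwdef]
    noncomm_ring
  have hyd1 : y * d1 = d2 * y := by
    rw [hd1def, hd2def]
    linear_combination (norm := (noncomm_ring <;> norm_num)) hyx - hyx4
  have hyd2 : y * d2 = -(d1 * y) := by
    rw [hd1def, hd2def]
    linear_combination (norm := (noncomm_ring <;> norm_num)) hyx2 - hyx3
  have hwd1 : w * d1 = -(d1 * w) := by
    rw [hwdef]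
    linear_combination (norm := (noncomm_ring <;> norm_num)) y * hyd1 + hyd2 * y
  have hwd2 : w * d2 = -(d2 * w) := by
    rw [hwdef]
    linear_combination (norm := (noncomm_ring <;> norm_num)) y * hyd2 - hyd1 * y
  have hd12 : d1 * d2 = d2 * d1 := by
    rw [hd1def, hd2def]
    noncomm_ring
  have hd1sq : d1 * d1 = x ^ 2 + x ^ 3 - 2 := by
    rw [hd1def]
    linear_combination (norm := (noncomm_ring <;> norm_num)) (x ^ 3 - 2) * hx5
  have hd2sq : d2 * d2 = x + x ^ 4 - 2 := by
    rw [hd2def]
    linear_combination (norm := (noncomm_ring <;> norm_num)) (x - 2) * hx5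
  have hsd1 : s * d1 = d1 * s := by
    rw [hsdef, hd1def]
    noncomm_ring
  have hsd2 : s * d2 = d2 * s := by
    rw [hsdef, hd2def]
    noncomm_ring
  obtain ⟨j, hjdef⟩ : ∃ j : D, j = d1 + d2 * w := ⟨_, rfl⟩
  have hj2 : j * j = -5 := by
    rw [hjdef]
    linear_combination (norm := (noncomm_ring <;> norm_num))
      hd1sq + hd2sq + hΦ + hd12 * w + d2 * hwd1 + d2 * hwd2 * w - d2 * d2 * hw2
  have hwj : w * j = -(j * w) := by
    rw [hjdef]
    linear_combination (norm := (noncomm_ring <;> norm_num)) hwd1 + hwd2 * w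
  have hsj : s * j = j * s := by
    rw [hjdef]
    linear_combination (norm := (noncomm_ring <;> norm_num)) hsd1 + hsd2 * w - d2 * hws
  have hyj : y * j = -(j * (y * y * y)) := by
    rw [hjdef, hwdef]
    linear_combination (norm := (noncomm_ring <;> norm_num))
      hyd1 + hyd2 * y * y + d2 * hy4 * y
  have hy3j : (y * y * y) * j = -(j * y) := by
    rw [hjdef, hwdef]
    rw [hwdef] at hwd1 hwd2
    linear_combination (norm := (noncomm_ring <;> norm_num))
      y * hwd1 - hyd1 * y * y + y * hwd2 * y * y - hyd2 * y * y * y * y + d1 * hy4 * y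
  have hrj : r * j = j * r := by
    rw [hrdef]
    linear_combination (norm := (noncomm_ring <;> norm_num)) hyj - hy3j
  exact oct_core s r w j hs2 hr2 hw2 hj2 hrs hws hsj hrw hrj hwj

/-- The package `PkgOct`. -/
theorem pkgOct : Cfsg.Agent.Lib.Helper48.AmiTop.PkgOct.{u} := by
  intro D _ _ x y hx5 hx1 hyx hy4
  exact oct_main x y hx5 hx1 hyx hy4

end Cfsg.Agent.Lib.Helper11.Ami
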